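import Cfsg.Agent.Char.Basic
import Cfsg.Agent.BlockChar.SixtyDegrees
import Cfsg.Agent.Core.Solvable
import Mathlib.Analysis.SpecialFunctions.Trigonometric.Bounds
import Mathlib.Analysis.SpecialFunctions.Complex.Log
import Mathlib.RingTheory.RootsOfUnity.Complex
import Mathlib.LinearAlgebra.Eigenspace.Pi

/-!
An element with exactly two eigenvalues, at angle less than about fifty degrees, commutes with all
its conjugates (Blichfeldt); small-dimensional representations of p-groups are commutative.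
-/

set_option autoImplicit false

namespace Cfsg.Agent.BlichTwoEig

open Module
open scoped commutatorElement

section Hilbert

variable {G : Type*} [Group G] {S : Type*} [NormedAddCommGroup S] [InnerProductSpace ℂ S]
  (L : G →* Module.End ℂ S)

theorem apply_inv (g : G) (v : S) : L g (L g⁻¹ v) = v := by
  rw [← Module.End.mul_apply, ← map_mul, mul_inv_cancel, map_one, Module.End.one_apply]

theorem inv_apply (g : G) (v : S) : L g⁻¹ (L g v) = v := by
  rw [← Module.End.mul_apply, ← map_mul, inv_mul_cancel, map_one, Module.End.one_apply]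

theorem inner_map (hiso : ∀ g v, ‖L g v‖ = ‖v‖) (g : G) (u v : S) :
    (inner ℂ (L g u) (L g v) : ℂ) = inner ℂ u v :=
  ({ toLinearMap := L g, norm_map' := hiso g } : S →ₗᵢ[ℂ] S).inner_map_map u v

/-- Two operators near scalars nearly commute. -/
theorem comm_bound (hiso : ∀ g v, ‖L g v‖ = ‖v‖) {c y : G} {l m : ℂ} {r s : ℝ} (hr0 : 0 ≤ r)
    (hs0 : 0 ≤ s) (hc : ∀ v, ‖L c v - l • v‖ ≤ r * ‖v‖) (hy : ∀ v, ‖L y v - m • v‖ ≤ s * ‖v‖)
    (v : S) : ‖L (c * y * c⁻¹ * y⁻¹) v - v‖ ≤ 2 * r * s * ‖v‖ := by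
  set w := L (c⁻¹ * y⁻¹) v with hw
  have hv : v = L (y * c) w := by
    rw [hw, ← Module.End.mul_apply, ← map_mul]
    simp [mul_assoc]
  have h1 : L (c * y * c⁻¹ * y⁻¹) v = L c (L y w) := by
    rw [hw, ← Module.End.mul_apply, ← Module.End.mul_apply, ← map_mul, ← map_mul]
    simp [mul_assoc]
  have hwv : ‖w‖ = ‖v‖ := hiso _ v
  have e : L (c * y * c⁻¹ * y⁻¹) v - v =
      (L c (L y w - m • w) - l • (L y w - m • w)) - (L y (L c w - l • w) - m • (L c w - l • w)) := by
    rw [h1]
    conv_lhs => rw [hv, map_mul, Module.End.mul_apply]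
    simp only [map_sub, map_smul, smul_sub, smul_smul, mul_comm m l]
    abel
  rw [e]
  refine (norm_sub_le _ _).trans ?_
  have a1 := (hc (L y w - m • w)).trans (mul_le_mul_of_nonneg_left (hy w) hr0)
  have a2 := (hy (L c w - l • w)).trans (mul_le_mul_of_nonneg_left (hc w) hs0)
  rw [hwv] at a1 a2
  nlinarith

variable {ζ : ℂ} {c : G}

theorem orth (hiso : ∀ g v, ‖L g v‖ = ‖v‖) (hζ : ζ ≠ 1) {a b : S} (ha : L c a = a)
    (hb : L c b = ζ • b) : (inner ℂ a b : ℂ) = 0 := by
  have h := inner_map L hiso c a b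
  rw [ha, hb, inner_smul_right] at h
  have h2 : (ζ - 1) * (inner ℂ a b : ℂ) = 0 := by rw [sub_mul, one_mul, h, sub_self]
  exact (mul_eq_zero.1 h2).resolve_left (sub_ne_zero.2 hζ)

theorem decomp_zero (hiso : ∀ g v, ‖L g v‖ = ‖v‖) (hζ : ζ ≠ 1) {a b : S} (ha : L c a = a)
    (hb : L c b = ζ • b) (h : a + b = 0) : a = 0 ∧ b = 0 := by
  have h2 := congrArg (fun z : S => (inner ℂ a z : ℂ)) h
  simp only [inner_add_right, orth L hiso hζ ha hb, add_zero, inner_zero_right, inner_self_eq_zero] at h2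
  exact ⟨h2, by rwa [h2, zero_add] at h⟩

theorem near_c (hiso : ∀ g v, ‖L g v‖ = ‖v‖) (hζ : ζ ≠ 1)
    (hdec : ∀ v : S, ∃ a b, v = a + b ∧ L c a = a ∧ L c b = ζ • b) (v : S) :
    ‖L c v - ((1 + ζ) / 2) • v‖ ≤ ‖ζ - 1‖ / 2 * ‖v‖ := by
  obtain ⟨a, b, rfl, ha, hb⟩ := hdec v
  have h0 := orth L hiso hζ ha hb
  have e : L c (a + b) - ((1 + ζ) / 2) • (a + b) = ((1 - ζ) / 2) • (a - b) := by
    rw [map_add, ha, hb]
    match_scalars <;> ring
  have h1 : ‖a - b‖ = ‖a + b‖ := by
    have h2 : ‖a - b‖ ^ 2 = ‖a + b‖ ^ 2 := by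
      rw [norm_sub_sq (𝕜 := ℂ), norm_add_sq (𝕜 := ℂ), h0]
      simp
    exact (pow_left_inj₀ (norm_nonneg _) (norm_nonneg _) two_ne_zero).1 h2
  rw [e, norm_smul, h1, norm_div, norm_sub_rev, RCLike.norm_ofNat]

/-- An operator with a large numerical range commuting with `c` after one commutator step. -/
theorem descend (hiso : ∀ g v, ‖L g v‖ = ‖v‖) (hinj : Function.Injective L) (hζ : ζ ≠ 1)
    (hdec : ∀ v : S, ∃ a b, v = a + b ∧ L c a = a ∧ L c b = ζ • b) {y : G} {m : ℂ} {s : ℝ}
    (hs : s < ‖m‖) (hy : ∀ v, ‖L y v - m • v‖ ≤ s * ‖v‖)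
    (hcom : Commute c (c * y * c⁻¹ * y⁻¹)) : Commute c y := by
  have hc' : Commute c (y * c * y⁻¹) := by
    have h1 := ((Commute.refl c).inv_right).mul_right hcom
    have e : c⁻¹ * (c * y * c⁻¹ * y⁻¹) = (y * c * y⁻¹)⁻¹ := by simp [mul_assoc]
    rw [e] at h1
    exact Commute.inv_right_iff.1 h1
  have key : ∀ u, (inner ℂ u (L y u) : ℂ) = 0 → u = 0 := by
    intro u h
    by_contra hu
    have h1 := hy u
    have h2 : ‖L y u - m • u‖ ^ 2 = ‖L y u‖ ^ 2 + ‖m • u‖ ^ 2 := by
      rw [norm_sub_sq (𝕜 := ℂ), inner_smul_right, inner_eq_zero_symm.1 h]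
      simp
    have h3 : s * ‖u‖ < ‖m • u‖ := by
      rw [norm_smul]
      exact mul_lt_mul_of_pos_right hs (norm_pos_iff.2 hu)
    nlinarith [norm_nonneg (L y u - m • u), norm_nonneg (m • u), sq_nonneg ‖L y u‖]
  set c' := y * c * y⁻¹ with hc'def
  have hy' : ∀ v, L c' (L y v) = L y (L c v) := fun v => by
    rw [← Module.End.mul_apply, ← Module.End.mul_apply, ← map_mul, ← map_mul, hc'def, inv_mul_cancel_right]
  have hcc : ∀ v, L c (L c' v) = L c' (L c v) := fun v => by
    rw [← Module.End.mul_apply, ← Module.End.mul_apply, ← map_mul, ← map_mul, hc'.eq]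
  have h1 : ∀ v, L c v = v → L c (L y v) = L y v := by
    intro v hv
    obtain ⟨a, b, hab, ha, hb⟩ := hdec (L y v)
    have hfix : L c' (L y v) = L y v := by rw [hy', hv]
    have hb' : L c (L c' b) = ζ • L c' b := by rw [hcc, hb, map_smul]
    have ha' : L c (L c' a) = L c' a := by rw [hcc, ha]
    have h2 : (L c' a - a) + (L c' b - b) = 0 := by
      rw [hab, map_add] at hfix
      linear_combination (norm := abel) hfix
    have h3 := (decomp_zero L hiso hζ (c := c) (by rw [map_sub, ha', ha]) (by rw [map_sub, hb', hb, smul_sub]) h2).2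
    rw [sub_eq_zero] at h3
    -- the preimage of `b` is fixed by `c`
    set u := L y⁻¹ b with hu
    have hyu : L y u = b := apply_inv L y b
    have huc : L c u = u := by
      have := hy' u
      rw [hyu, h3] at this
      have h4 := congrArg (L y⁻¹) this
      rw [inv_apply] at h4
      exact h4.symm
    have hu0 : u = 0 := key u (by rw [hyu]; exact orth L hiso hζ huc hb)
    rw [hu0, map_zero] at hyu
    rw [hab, ← hyu, add_zero, ha]
  have h2 : ∀ v, L c v = ζ • v → L c (L y v) = ζ • L y v := by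
    intro v hv
    obtain ⟨a, b, hab, ha, hb⟩ := hdec (L y v)
    have hfix : L c' (L y v) = ζ • L y v := by rw [hy', hv, map_smul]
    have hb' : L c (L c' b) = ζ • L c' b := by rw [hcc, hb, map_smul]
    have ha' : L c (L c' a) = L c' a := by rw [hcc, ha]
    have h2 : (L c' a - ζ • a) + (L c' b - ζ • b) = 0 := by
      rw [hab, map_add, smul_add] at hfix
      linear_combination (norm := abel) hfix
    have h3 := (decomp_zero L hiso hζ (c := c) (by rw [map_sub, map_smul, ha', ha])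
      (by rw [map_sub, map_smul, hb', hb, smul_sub]) h2).1
    rw [sub_eq_zero] at h3
    set u := L y⁻¹ a with hu
    have hyu : L y u = a := apply_inv L y a
    have huc : L c u = ζ • u := by
      have := hy' u
      rw [hyu, h3] at this
      have h4 := congrArg (L y⁻¹) this
      rw [inv_apply, map_smul] at h4
      exact h4.symm
    have hu0 : u = 0 := key u (by
      rw [hyu]
      exact inner_eq_zero_symm.1 (orth L hiso hζ ha huc))
    rw [hu0, map_zero] at hyu
    rw [hab, ← hyu, zero_add, hb]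
  refine hinj (LinearMap.ext fun v => ?_)
  obtain ⟨a, b, rfl, ha, hb⟩ := hdec v
  rw [map_mul, map_mul, Module.End.mul_apply, Module.End.mul_apply, map_add, map_add, map_add, map_add,
    ha, hb, h1 a ha, h2 b hb, map_smul]

theorem commute_conj [Finite G] (hiso : ∀ g v, ‖L g v‖ = ‖v‖) (hinj : Function.Injective L) (hζ : ζ ≠ 1)
    (hζ1 : ‖ζ - 1‖ < 9 / 10) (hdec : ∀ v : S, ∃ a b, v = a + b ∧ L c a = a ∧ L c b = ζ • b) (g : G) :
    Commute c (g * c * g⁻¹) := by
  classical
  cases nonempty_fintype G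
  obtain ⟨r, hr⟩ : ∃ r, r = ‖ζ - 1‖ / 2 := ⟨_, rfl⟩
  obtain ⟨l, hl⟩ : ∃ l, l = (1 + ζ) / 2 := ⟨_, rfl⟩
  have hr0 : 0 ≤ r := by rw [hr]; positivity
  have hrl : r < ‖l‖ := by
    have h1 : (1 : ℂ) = l - (ζ - 1) / 2 := by rw [hl]; ring
    have h2 : ‖(1 : ℂ)‖ ≤ ‖l‖ + ‖ζ - 1‖ / 2 := by
      conv_lhs => rw [h1]
      refine (norm_sub_le _ _).trans (le_of_eq ?_)
      rw [norm_div, RCLike.norm_ofNat]
    rw [norm_one] at h2
    linarith
  have hc : ∀ v, ‖L c v - l • v‖ ≤ r * ‖v‖ := fun v => by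
    rw [hr, hl]; exact near_c L hiso hζ hdec v
  have hg : ∀ v, ‖L (g * c * g⁻¹) v - l • v‖ ≤ r * ‖v‖ := fun v => by
    have h1 : L (g * c * g⁻¹) v - l • v = L g (L c (L g⁻¹ v) - l • L g⁻¹ v) := by
      rw [map_sub, map_smul, apply_inv, map_mul, map_mul, Module.End.mul_apply, Module.End.mul_apply]
    rw [h1, hiso, ← hiso g⁻¹ v]
    exact hc _
  obtain ⟨x, hx0, hx⟩ : ∃ x : ℕ → G, x 0 = g * c * g⁻¹ ∧ ∀ k, x (k + 1) = c * x k * c⁻¹ * (x k)⁻¹ :=
    ⟨fun k => (fun y => c * y * c⁻¹ * y⁻¹)^[k] (g * c * g⁻¹), rfl,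
      fun k => Function.iterate_succ_apply' _ _ _⟩
  have hb : ∀ k v, ‖L (x (k + 1)) v - (1 : ℂ) • v‖ ≤ (2 * r) ^ (k + 1) * r * ‖v‖ := by
    intro k
    induction k with
    | zero =>
      intro v
      rw [one_smul, hx, hx0, zero_add, pow_one]
      exact comm_bound L hiso hr0 hr0 hc hg v
    | succ k ih =>
      intro v
      rw [one_smul, hx (k + 1)]
      refine (comm_bound L hiso hr0 (by positivity) hc ih v).trans (le_of_eq ?_)
      ring
  have hw : ∀ y : G, ∃ v : S, y ≠ 1 → L y v ≠ v := fun y => by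
    by_cases hy : y = 1
    · exact ⟨0, fun h => absurd hy h⟩
    · by_contra hne
      push Not at hne
      exact hy (hinj (LinearMap.ext fun v => by rw [map_one, (hne v).2, Module.End.one_apply]))
  choose w hw using hw
  obtain ⟨y0, hy0⟩ := Finite.exists_min fun y : G =>
    if y = 1 then (1 : ℝ) else ‖L y (w y) - w y‖ / ‖w y‖
  have hpos : ∀ y : G, y ≠ 1 → 0 < ‖L y (w y) - w y‖ / ‖w y‖ := fun y hy => by
    refine div_pos (norm_pos_iff.2 (sub_ne_zero.2 (hw y hy))) (norm_pos_iff.2 fun h => hw y hy ?_)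
    rw [h, map_zero]
  obtain ⟨δ, hδ, hδy⟩ : ∃ δ : ℝ, 0 < δ ∧ ∀ y : G, y ≠ 1 → δ ≤ ‖L y (w y) - w y‖ / ‖w y‖ := by
    refine ⟨if y0 = 1 then (1 : ℝ) else ‖L y0 (w y0) - w y0‖ / ‖w y0‖, ?_, fun y hy => ?_⟩
    · by_cases h : y0 = 1
      · rw [if_pos h]; exact one_pos
      · rw [if_neg h]; exact hpos y0 h
    · have := hy0 y
      simpa [hy] using this
  have h2r : 2 * r < 1 := by linarith
  obtain ⟨k, hk⟩ : ∃ k, (2 * r) ^ (k + 1) * r < δ := by
    obtain ⟨k, hk⟩ := exists_pow_lt_of_lt_one hδ h2r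
    refine ⟨k, lt_of_le_of_lt ?_ hk⟩
    rw [pow_succ, mul_assoc]
    exact mul_le_of_le_one_right (by positivity) (by nlinarith)
  have hone : x (k + 1) = 1 := by
    by_contra hne
    have h1 := hδy _ hne
    have h2 := hb k (w (x (k + 1)))
    rw [one_smul] at h2
    have h3 : 0 < ‖w (x (k + 1))‖ := norm_pos_iff.2 fun h => hw _ hne (by rw [h, map_zero])
    rw [le_div_iff₀ h3] at h1
    nlinarith
  have hlast : ∀ j, Commute c (x (j + 1)) → Commute c (x j) := by
    intro j hj
    rw [hx] at hj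
    cases j with
    | zero =>
      rw [hx0] at hj ⊢
      exact descend L hiso hinj hζ hdec hrl hg hj
    | succ j =>
      refine descend L hiso hinj hζ hdec (m := 1) (s := (2 * r) ^ (j + 1) * r) ?_ (hb j) hj
      rw [norm_one]
      have := pow_le_one₀ (n := j + 1) (by linarith) h2r.le
      nlinarith
  have h0 : ∀ j, Commute c (x j) → Commute c (x 0) := by
    intro j
    induction j with
    | zero => exact id
    | succ j ih => exact fun h => ih (hlast j h)
  rw [← hx0]
  exact h0 (k + 1) (by rw [hone]; exact Commute.one_right c)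

end Hilbert

section PGroup

variable {Q : Type*} [Group Q] [Finite Q] {p : ℕ}
  {U : Type*} [AddCommGroup U] [Module ℂ U] [FiniteDimensional ℂ U]

theorem exists_central_comm (hp : p.Prime) (hQ : IsPGroup p Q) {x y : Q} (hxy : x * y ≠ y * x) :
    ∃ c : Q, c ∈ commutator Q ∧ c ∈ Subgroup.center Q ∧ orderOf c = p := by
  haveI := Fact.mk hp
  haveI := hQ.isNilpotent
  have hne : commutator Q ≠ ⊥ := fun h => hxy (by
    have : ⁅x, y⁆ ∈ commutator Q := Subgroup.commutator_mem_commutator (Subgroup.mem_top x) (Subgroup.mem_top y)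
    rw [h, Subgroup.mem_bot, commutatorElement_eq_one_iff_mul_comm] at this
    exact this)
  have hI := Cfsg.Agent.Core.inf_center_ne_bot hne
  haveI := (Subgroup.nontrivial_iff_ne_bot _).2 hI
  obtain ⟨k, hk, hcard⟩ := (hQ.to_subgroup (commutator Q ⊓ Subgroup.center Q)).nontrivial_iff_card.1 inferInstance
  obtain ⟨c, hc⟩ := exists_prime_orderOf_dvd_card' (G := ↥(commutator Q ⊓ Subgroup.center Q)) p
    (hcard ▸ dvd_pow_self p hk.ne')
  exact ⟨c, c.2.1, c.2.2, by rw [Subgroup.orderOf_coe, hc]⟩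

/-- Nontrivial eigenvalues of a central commutator of order `p` have multiplicity divisible by `p`. -/
theorem eigen_dim (hp : p.Prime) (σ : Representation ℂ Q U) {c : Q} (hc : c ∈ commutator Q)
    (hz : c ∈ Subgroup.center Q) (hcp : c ^ p = 1) {μ : ℂ} (hμ : μ ≠ 1) :
    p ∣ finrank ℂ (Module.End.eigenspace (σ c) μ) := by
  set W := Module.End.eigenspace (σ c) μ with hW
  rcases eq_or_ne W ⊥ with h | h
  · rw [h, finrank_bot]; exact dvd_zero p
  have hinv : ∀ (q : Q) (v : U), v ∈ W → σ q v ∈ W := fun q v hv => by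
    rw [hW, Module.End.mem_eigenspace_iff] at hv ⊢
    rw [← Module.End.mul_apply, ← map_mul, ← Subgroup.mem_center_iff.1 hz q, map_mul, Module.End.mul_apply,
      hv, map_smul]
  let τ : Q →* Module.End ℂ W :=
    { toFun := fun q => (σ q).restrict (hinv q)
      map_one' := LinearMap.ext fun v => Subtype.ext (by simp)
      map_mul' := fun a b => LinearMap.ext fun v => Subtype.ext (by simp [LinearMap.restrict_apply]) }
  let D : Q →* ℂˣ := ((LinearMap.det (M := W)).comp τ).toHomUnits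
  have hD : D c = 1 := MonoidHom.mem_ker.1 (Abelianization.commutator_subset_ker D hc)
  have hτ : τ c = μ • (LinearMap.id : W →ₗ[ℂ] W) := LinearMap.ext fun v => Subtype.ext (by
    exact Module.End.mem_eigenspace_iff.1 v.2)
  have hdet : μ ^ finrank ℂ W = 1 := by
    have h1 : ((D c : ℂˣ) : ℂ) = LinearMap.det (τ c) := rfl
    rw [hD, Units.val_one, hτ, LinearMap.det_smul, LinearMap.det_id, mul_one] at h1
    exact h1.symm
  have hμp : μ ^ p = 1 := by
    obtain ⟨v, hv, hv0⟩ := Submodule.exists_mem_ne_zero_of_ne_bot h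
    rw [hW, Module.End.mem_eigenspace_iff] at hv
    have h2 : ∀ j : ℕ, σ (c ^ j) v = μ ^ j • v := fun j => by
      induction j with
      | zero => simp
      | succ j ih => rw [pow_succ', map_mul, Module.End.mul_apply, ih, map_smul, hv, smul_smul, pow_succ]
    have h3 := h2 p
    rw [hcp, map_one, Module.End.one_apply] at h3
    exact smul_left_injective ℂ hv0 (by simpa using h3.symm)
  have ho : orderOf μ = p := by
    haveI := Fact.mk hp
    exact orderOf_eq_prime hμp hμ
  rw [← ho]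
  exact orderOf_dvd_of_pow_eq_one hdet

/-- A p-group acts commutatively in dimension less than p. -/
theorem comm_of_lt (hp : p.Prime) (hQ : IsPGroup p Q) (σ : Representation ℂ Q U)
    (hd : finrank ℂ U < p) (x y : Q) : σ (x * y) = σ (y * x) := by
  by_contra hne
  let f : Q →* (Module.End ℂ U)ˣ := σ.toHomUnits
  let τ : Representation ℂ (Q ⧸ f.ker) U := (Units.coeHom _).comp (QuotientGroup.kerLift f)
  have hτ : Function.Injective τ := Units.val_injective.comp (QuotientGroup.kerLift_injective f)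
  have hτσ : ∀ q : Q, τ (q : Q ⧸ f.ker) = σ q := fun q => rfl
  obtain ⟨c, hc, hz, ho⟩ := exists_central_comm hp (hQ.to_quotient f.ker)
    (x := (x : Q ⧸ f.ker)) (y := (y : Q ⧸ f.ker)) fun h => hne (by
      rw [← hτσ, ← hτσ, QuotientGroup.mk_mul, QuotientGroup.mk_mul, h])
  have hcp : c ^ p = 1 := ho ▸ pow_orderOf_eq_one c
  obtain ⟨μ, b, hb, -, -⟩ := Cfsg.Agent.Char.exists_eigenbasis τ c
  have hone : ∀ i, μ i = 1 := fun i => by
    by_contra hμ
    have h1 := eigen_dim hp τ hc hz hcp hμ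
    have h2 : b i ∈ Module.End.eigenspace (τ c) (μ i) := Module.End.mem_eigenspace_iff.2 (hb i)
    rcases Nat.eq_zero_or_pos (finrank ℂ (Module.End.eigenspace (τ c) (μ i))) with h | h
    · rw [Submodule.finrank_eq_zero.1 h, Submodule.mem_bot] at h2
      exact b.ne_zero i h2
    · have := Nat.le_of_dvd h h1
      have := Submodule.finrank_le (Module.End.eigenspace (τ c) (μ i))
      omega
  have : c = 1 := hτ (b.ext fun i => by rw [hb, hone, one_smul, map_one, Module.End.one_apply])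
  rw [this, orderOf_one] at ho
  exact hp.ne_one ho.symm

end PGroup

end Cfsg.Agent.BlichTwoEig
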