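import Cfsg.Agent.BlichTwoEig.Basic
import Cfsg.Agent.Core.PCore
import Mathlib.GroupTheory.Perm.Basic
import Mathlib.GroupTheory.Sylow
import Mathlib.Data.Nat.Prime.Factorial
import Mathlib.Analysis.Real.Pi.Bounds

/-!
A finite irreducible linear group of degree less than `2p` (not `p`, with `p ≥ 7`) having non-abelian
Sylow `p`-subgroups is monomial, so `p ^ 2` does not divide the index of its `p`-core.
-/

set_option autoImplicit false

namespace Cfsg.Agent.BlichTwoEig

open Module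

theorem not_sq_dvd_factorial {p : ℕ} (hp : p.Prime) : ∀ m, m < 2 * p → ¬ p ^ 2 ∣ m.factorial := by
  intro m
  induction m with
  | zero => intro _ h; rw [Nat.factorial_zero, Nat.dvd_one] at h; exact hp.ne_one (by nlinarith [hp.two_le])
  | succ m ih =>
    intro hm h
    rw [Nat.factorial_succ] at h
    by_cases hmp : m + 1 = p
    · rw [hmp, pow_two] at h
      have h2 : p ∣ m.factorial := Nat.dvd_of_mul_dvd_mul_left hp.pos h
      rw [hp.dvd_factorial] at h2
      omega
    · refine ih (by omega) ((Nat.Coprime.pow_left 2 ((Nat.Prime.coprime_iff_not_dvd hp).2 fun hd => ?_)).dvd_of_dvd_mul_left h)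
      obtain ⟨k, hk⟩ := hd
      rcases Nat.lt_or_ge k 2 with hk2 | hk2
      · interval_cases k <;> simp_all
      · nlinarith

variable {G : Type*} [Group G] [Finite G] {n : ℕ} (ρ : Representation ℂ G (Fin n → ℂ))

theorem mem_maxEigen (g : G) (μ : ℂ) :
    Module.End.maxGenEigenspace (ρ g) μ = Module.End.eigenspace (ρ g) μ := by
  refine Module.End.IsFinitelySemisimple.maxGenEigenspace_eq_eigenspace (Module.End.IsSemisimple.isFinitelySemisimple ?_) μ
  refine Module.End.isSemisimple_of_squarefree_aeval_eq_zero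
    (Polynomial.separable_X_pow_sub_C (1 : ℂ) (Nat.cast_ne_zero.2 (orderOf_pos g).ne') one_ne_zero).squarefree ?_
  simp [← map_pow, pow_orderOf_eq_one, Polynomial.aeval_X_pow]

/-- Some element of order p of a non-abelian Sylow subgroup has exactly two eigenvalues, close to each other. -/
theorem exists_two_eigen (hinj : Function.Injective ρ) {p : ℕ} (hp : p.Prime) (h7 : 7 ≤ p)
    (hn2 : n < 2 * p) (hnp : n ≠ p) {P : Subgroup G} (hP : IsPGroup p P) {x y : P} (hxy : x * y ≠ y * x) :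
    ∃ (c : G) (ζ : ℂ), c ^ p = 1 ∧ ζ ≠ 1 ∧ ‖ζ - 1‖ < 9 / 10 ∧
      (∀ v, ∃ a b, v = a + b ∧ ρ c a = a ∧ ρ c b = ζ • b) ∧
      (∀ l : ℂ, ρ c ≠ l • LinearMap.id) := by
  classical
  obtain ⟨c, hc, hz, ho⟩ := exists_central_comm hp hP hxy
  let σ : Representation ℂ P (Fin n → ℂ) := ρ.comp P.subtype
  have hcp : c ^ p = 1 := ho ▸ pow_orderOf_eq_one c
  obtain ⟨ν, b, hb, hν, -⟩ := Cfsg.Agent.Char.exists_eigenbasis σ c
  rw [ho] at hν
  have hdim : ∀ μ : ℂ, μ ≠ 1 → (∃ i, ν i = μ) → finrank ℂ (Module.End.eigenspace (σ c) μ) = p := by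
    intro μ hμ hi
    obtain ⟨i, rfl⟩ := hi
    have h1 := eigen_dim hp σ hc hz hcp hμ
    have h2 : Module.End.eigenspace (σ c) (ν i) ≠ ⊥ := fun h => b.ne_zero i (by
      have := Module.End.mem_eigenspace_iff.2 (hb i)
      rwa [h, Submodule.mem_bot] at this)
    obtain ⟨k, hk⟩ := h1
    have h3 := Submodule.finrank_le (Module.End.eigenspace (σ c) (ν i))
    rw [Module.finrank_fin_fun] at h3
    have h4 : 0 < finrank ℂ (Module.End.eigenspace (σ c) (ν i)) :=
      Nat.pos_of_ne_zero fun h => h2 (Submodule.finrank_eq_zero.1 h)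
    rcases k with _ | _ | k
    · omega
    · omega
    · nlinarith
  obtain ⟨i₀, hi₀⟩ : ∃ i, ν i ≠ 1 := by
    by_contra hall
    push Not at hall
    have h1 : ρ (c : G) = ρ 1 := b.ext fun i => by
      show σ c (b i) = ρ 1 (b i)
      rw [hb, hall, one_smul, map_one, Module.End.one_apply]
    have : c = 1 := Subtype.ext (hinj h1)
    rw [this, orderOf_one] at ho
    omega
  set μ := ν i₀ with hμdef
  have htwo : ∀ i, ν i = 1 ∨ ν i = μ := by
    intro i
    by_contra hne
    push Not at hne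
    have hdis : Disjoint (Module.End.eigenspace (σ c) μ) (Module.End.eigenspace (σ c) (ν i)) :=
      Module.End.disjoint_genEigenspace (σ c) hne.2.symm 1 1
    have h1 := Submodule.finrank_add_finrank_le_of_disjoint hdis
    rw [hdim μ hi₀ ⟨i₀, rfl⟩, hdim (ν i) hne.1 ⟨i, rfl⟩, Module.finrank_fin_fun] at h1
    omega
  obtain ⟨i₁, hi₁⟩ : ∃ i, ν i = 1 := by
    by_contra hall
    push Not at hall
    have htop : Module.End.eigenspace (σ c) μ = ⊤ := eq_top_iff.2 fun v _ => by
      rw [Module.End.mem_eigenspace_iff]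
      have : σ c = μ • (LinearMap.id : (Fin n → ℂ) →ₗ[ℂ] _) := b.ext fun i => by
        rw [hb, (htwo i).resolve_left (hall i)]; rfl
      rw [this]; rfl
    have := hdim μ hi₀ ⟨i₀, rfl⟩
    rw [htop, finrank_top, Module.finrank_fin_fun] at this
    exact hnp this
  haveI : NeZero p := ⟨hp.ne_zero⟩
  have hprim : IsPrimitiveRoot μ p := by
    haveI := Fact.mk hp
    have := orderOf_eq_prime (hν i₀) hi₀
    exact this ▸ IsPrimitiveRoot.orderOf μ
  have hexp := Complex.isPrimitiveRoot_exp p hp.ne_zero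
  set ζ := Complex.exp (2 * Real.pi * Complex.I / p) with hζdef
  obtain ⟨j, -, hj⟩ := hprim.eq_pow_of_pow_eq_one hexp.pow_eq_one
  have hζ1 : ζ ≠ 1 := hexp.ne_one hp.one_lt
  have hζn : ‖ζ - 1‖ < 9 / 10 := by
    have e : ζ = Complex.exp (Complex.I * ((2 * Real.pi / p : ℝ) : ℂ)) := by
      rw [hζdef]
      congr 1
      push_cast
      ring
    rw [e]
    refine (Real.norm_exp_I_mul_ofReal_sub_one_le).trans_lt ?_
    rw [Real.norm_of_nonneg (by positivity), div_lt_iff₀ (by positivity)]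
    have h7' : (7 : ℝ) ≤ p := by exact_mod_cast h7
    nlinarith [Real.pi_lt_d2]
  have hpow : ∀ i, ρ ((c : G) ^ j) (b i) = ν i ^ j • b i := by
    intro i
    have h2 : ∀ k : ℕ, ρ ((c : G) ^ k) (b i) = ν i ^ k • b i := fun k => by
      induction k with
      | zero => simp
      | succ k ih =>
        rw [pow_succ', map_mul, Module.End.mul_apply, ih, map_smul, show ρ (c : G) (b i) = σ c (b i) from rfl, hb,
          smul_smul, pow_succ]
    exact h2 j
  refine ⟨(c : G) ^ j, ζ, ?_, hζ1, hζn, fun v => ?_, fun l hl => ?_⟩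
  · rw [← pow_mul, mul_comm, pow_mul, ← SubgroupClass.coe_pow, hcp, OneMemClass.coe_one, one_pow]
  · refine ⟨∑ i ∈ Finset.univ.filter (fun i => ν i = 1), b.repr v i • b i,
      ∑ i ∈ Finset.univ.filter (fun i => ¬ ν i = 1), b.repr v i • b i, ?_, ?_, ?_⟩
    · rw [Finset.sum_filter_add_sum_filter_not, b.sum_repr]
    · rw [map_sum]
      refine Finset.sum_congr rfl fun i hi => ?_
      rw [map_smul, hpow, (Finset.mem_filter.1 hi).2, one_pow, one_smul]
    · rw [map_sum, Finset.smul_sum]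
      refine Finset.sum_congr rfl fun i hi => ?_
      rw [map_smul, hpow, (htwo i).resolve_left (Finset.mem_filter.1 hi).2, hj, smul_comm]
  · have h1 : l = 1 := by
      have := hpow i₁
      rw [hl, hi₁, one_pow] at this
      exact smul_left_injective ℂ (b.ne_zero i₁) this
    have h2 := hpow i₀
    rw [hl, ← hμdef, hj] at h2
    exact hζ1 ((smul_left_injective ℂ (b.ne_zero i₀) h2).symm.trans h1)

/-- The joint weight space. -/
noncomputable def weight (E : Subgroup G) (χ : E → ℂ) : Submodule ℂ (Fin n → ℂ) :=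
  ⨅ e : E, Module.End.maxGenEigenspace (ρ e) (χ e)

theorem mem_weight (E : Subgroup G) (χ : E → ℂ) {v : Fin n → ℂ} :
    v ∈ weight ρ E χ ↔ ∀ e : E, ρ e v = χ e • v := by
  simp [weight, Submodule.mem_iInf, mem_maxEigen]

/-- Conjugated weight. -/
def moveWt (E : Subgroup G) [E.Normal] (g : G) (χ : E → ℂ) : E → ℂ :=
  fun e => χ ⟨g⁻¹ * (e : G) * g, by simpa using Subgroup.Normal.conj_mem ‹E.Normal› (e : G) e.2 g⁻¹⟩

theorem moveWt_mul (E : Subgroup G) [E.Normal] (g h : G) (χ : E → ℂ) :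
    moveWt E (g * h) χ = moveWt E g (moveWt E h χ) :=
  funext fun e => congrArg χ (Subtype.ext (by simp [mul_assoc]))

theorem moveWt_one (E : Subgroup G) [E.Normal] (χ : E → ℂ) : moveWt E 1 χ = χ :=
  funext fun e => congrArg χ (Subtype.ext (by simp))

theorem map_weight (E : Subgroup G) [E.Normal] (g : G) (χ : E → ℂ) {v : Fin n → ℂ} (hv : v ∈ weight ρ E χ) :
    ρ g v ∈ weight ρ E (moveWt E g χ) := by
  rw [mem_weight] at hv ⊢
  intro e
  have h := hv ⟨g⁻¹ * (e : G) * g, by simpa using Subgroup.Normal.conj_mem ‹E.Normal› (e : G) e.2 g⁻¹⟩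
  have e1 : (e : G) * g = g * (g⁻¹ * (e : G) * g) := by simp [mul_assoc]
  rw [← Module.End.mul_apply, ← map_mul, e1, map_mul, Module.End.mul_apply, h, map_smul]
  rfl

theorem main (hinj : Function.Injective ρ) (hirr : ρ.IsIrreducible) {p : ℕ} (hp : p.Prime) (h7 : 7 ≤ p)
    (hn2 : n < 2 * p) (hnp : n ≠ p) {P : Subgroup G} (hP : IsPGroup p P) {x y : P} (hxy : x * y ≠ y * x) :
    ¬ p ^ 2 ∣ (Cfsg.pCore p G).index := by
  classical
  obtain ⟨c, ζ, hcp, hζ, hζn, hdec, hsc⟩ := exists_two_eigen ρ hinj hp h7 hn2 hnp hP hxy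
  -- all conjugates commute
  have hcomm : ∀ g : G, Commute c (g * c * g⁻¹) := by
    obtain ⟨S, _, _, e, he⟩ := Cfsg.Agent.BlockChar.exists_isometric_model ρ
    have hconj : ∀ g w, Cfsg.Agent.Char.transport e ρ g (e w) = e (ρ g w) := fun g w => by
      rw [Cfsg.Agent.Char.transport_apply_apply, LinearEquiv.symm_apply_apply]
    refine commute_conj (Cfsg.Agent.Char.transport e ρ) (fun g v => ?_) (fun a a' h => hinj ?_) hζ hζn (fun v => ?_)
    · obtain ⟨w, rfl⟩ := e.surjective v
      rw [hconj]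
      exact he g w
    · refine LinearMap.ext fun w => e.injective ?_
      rw [← hconj, ← hconj, h]
    · obtain ⟨w, rfl⟩ := e.surjective v
      obtain ⟨a, b, rfl, ha, hb⟩ := hdec w
      exact ⟨e a, e b, map_add e a b, by rw [hconj, ha], by rw [hconj, hb, map_smul]⟩
  -- the normal abelian subgroup
  obtain ⟨E, hE⟩ : ∃ E : Subgroup G, E = Subgroup.normalClosure ({c} : Set G) := ⟨_, rfl⟩
  haveI : E.Normal := hE ▸ Subgroup.normalClosure_normal
  have hcE : c ∈ E := hE ▸ Subgroup.subset_normalClosure rfl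
  have hEc : ∀ a ∈ E, ∀ b ∈ E, a * b = b * a := by
    have := Subgroup.isMulCommutative_closure (k := Group.conjugatesOfSet ({c} : Set G)) (fun a ha b hb => by
      obtain ⟨c1, hc1, h1⟩ := Group.mem_conjugatesOfSet_iff.1 ha
      obtain ⟨c2, hc2, h2⟩ := Group.mem_conjugatesOfSet_iff.1 hb
      rw [Set.mem_singleton_iff] at hc1 hc2
      subst hc1 hc2
      obtain ⟨g, rfl⟩ := isConj_iff.1 h1
      obtain ⟨h, rfl⟩ := isConj_iff.1 h2
      have h3 := (hcomm (g⁻¹ * h)).map (MulAut.conj g).toMonoidHom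
      have e3 : g * (g⁻¹ * h * c2 * (g⁻¹ * h)⁻¹) * g⁻¹ = h * c2 * h⁻¹ := by simp [mul_assoc]
      simp only [MulEquiv.coe_toMonoidHom, MulAut.conj_apply, e3] at h3
      exact h3.eq)
    intro a ha b hb
    rw [hE] at ha hb
    exact congrArg Subtype.val (this.is_comm.comm ⟨a, ha⟩ ⟨b, hb⟩)
  -- weights
  have hmaps : ∀ (a b : E) (φ : ℂ), Set.MapsTo (ρ a) ((Module.End.maxGenEigenspace (ρ b) φ : Submodule ℂ (Fin n → ℂ)) : Set (Fin n → ℂ))
      ((Module.End.maxGenEigenspace (ρ b) φ : Submodule ℂ (Fin n → ℂ)) : Set (Fin n → ℂ)) := fun a b φ =>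
    Module.End.mapsTo_maxGenEigenspace_of_comm (by
      show ρ b * ρ a = ρ a * ρ b
      rw [← map_mul, ← map_mul, hEc _ b.2 _ a.2]) φ
  have hind : iSupIndep (weight ρ E) :=
    Module.End.independent_iInf_maxGenEigenspace_of_forall_mapsTo (fun e : E => ρ e) hmaps
  have htop : ⨆ χ, weight ρ E χ = ⊤ :=
    Module.End.iSup_iInf_maxGenEigenspace_eq_top_of_forall_mapsTo (fun e : E => ρ e) hmaps
      fun e => Module.End.iSup_maxGenEigenspace_eq_top _
  haveI : Finite {χ // weight ρ E χ ≠ ⊥} := (Submodule.finite_ne_bot_of_iSupIndep hind).to_subtype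
  let Λ := {χ // weight ρ E χ ≠ ⊥}
  letI : Fintype Λ := Fintype.ofFinite Λ
  have hne : ∀ (g : G) (χ : E → ℂ), weight ρ E χ ≠ ⊥ → weight ρ E (moveWt E g χ) ≠ ⊥ := fun g χ h h' => by
    obtain ⟨v, hv, hv0⟩ := Submodule.exists_mem_ne_zero_of_ne_bot h
    have h1 := map_weight ρ E g χ hv
    rw [h', Submodule.mem_bot] at h1
    exact hv0 (by rw [← ρ.inv_self_apply g v, h1, map_zero])
  letI act : MulAction G Λ :=
    { smul := fun g χ => ⟨moveWt E g χ.1, hne g χ.1 χ.2⟩
      one_smul := fun χ => Subtype.ext (moveWt_one E χ.1)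
      mul_smul := fun g h χ => Subtype.ext (moveWt_mul E g h χ.1) }
  obtain ⟨W, hW⟩ : ∃ W : Λ → Submodule ℂ (Fin n → ℂ), ∀ χ, W χ = weight ρ E χ.1 := ⟨_, fun χ => rfl⟩
  have hmove : ∀ (g : G) (χ : Λ) v, v ∈ W χ → ρ g v ∈ W (g • χ) := fun g χ v hv => by
    rw [hW] at hv ⊢
    exact map_weight ρ E g χ.1 hv
  have hindW : iSupIndep W := by
    rw [show W = fun χ : Λ => weight ρ E χ.1 from funext hW]
    exact hind.comp Subtype.val_injective
  have htopW : ⨆ χ, W χ = ⊤ := by
    rw [show W = fun χ : Λ => weight ρ E χ.1 from funext hW]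
    exact (iSup_ne_bot_subtype _).trans htop
  have hWne : ∀ χ, W χ ≠ ⊥ := fun χ => by rw [hW]; exact χ.2
  -- transitivity and equal dimensions
  have hdimle : ∀ (g : G) (χ : Λ), finrank ℂ (W χ) ≤ finrank ℂ (W (g • χ)) := fun g χ =>
    LinearMap.finrank_le_finrank_of_injective (f := (ρ g).restrict (hmove g χ))
      fun a b h => Subtype.ext (by
        have h1 := congrArg (fun z : W (g • χ) => ρ g⁻¹ (z : Fin n → ℂ)) h
        simpa [LinearMap.restrict_apply, ρ.inv_self_apply] using h1)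
  have hdim : ∀ (g : G) (χ : Λ), finrank ℂ (W (g • χ)) = finrank ℂ (W χ) := fun g χ =>
    le_antisymm ((hdimle g⁻¹ (g • χ)).trans_eq (by rw [inv_smul_smul])) (hdimle g χ)
  haveI := hirr
  obtain ⟨hnt, hsub⟩ := Cfsg.Agent.Char.isIrreducible_iff.1 hirr
  obtain ⟨χ₀⟩ : Nonempty Λ := by
    by_contra hemp
    rw [not_nonempty_iff] at hemp
    rw [iSup_of_empty] at htopW
    exact bot_ne_top htopW
  have htrans : ∀ χ : Λ, ∃ g : G, g • χ₀ = χ := by
    intro χ
    by_contra hχ
    push Not at hχ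
    obtain ⟨U, hU⟩ : ∃ U, U = ⨆ g : G, W (g • χ₀) := ⟨_, rfl⟩
    have hinvU : ∀ (h : G), ∀ v ∈ U, ρ h v ∈ U := fun h v hv => by
      rw [hU] at hv ⊢
      refine Submodule.iSup_induction _ (motive := fun v => ρ h v ∈ ⨆ g : G, W (g • χ₀)) hv (fun g v hv => ?_) ?_ ?_
      · refine Submodule.mem_iSup_of_mem (h * g) ?_
        rw [mul_smul]
        exact hmove h _ v hv
      · rw [map_zero]; exact zero_mem _
      · intro a b ha hb; rw [map_add]; exact add_mem ha hb
    rcases hsub U hinvU with h | h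
    · refine hWne χ₀ (le_bot_iff.1 (h ▸ hU ▸ le_iSup_of_le 1 ?_))
      rw [one_smul]
    · refine hWne χ (disjoint_self.1 ((hindW χ).mono le_rfl ?_))
      refine le_top.trans (h.symm.le.trans (hU.le.trans (iSup_le fun g => ?_)))
      exact le_iSup₂_of_le (g • χ₀) (hχ g) le_rfl
  obtain ⟨d, hd⟩ : ∃ d, d = finrank ℂ (W χ₀) := ⟨_, rfl⟩
  have hd0 : 0 < d := hd ▸ Nat.pos_of_ne_zero fun h => hWne χ₀ (Submodule.finrank_eq_zero.1 h)
  have hdd : ∀ χ, finrank ℂ (W χ) = d := fun χ => by
    obtain ⟨g, rfl⟩ := htrans χ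
    rw [hdim, hd]
  have hint : DirectSum.IsInternal W := DirectSum.isInternal_submodule_of_iSupIndep_of_iSup_eq_top hindW htopW
  have hsum : Fintype.card Λ * d = n := by
    have h1 := Module.finrank_eq_card_basis (hint.collectedBasis fun χ => Module.finBasis ℂ (W χ))
    rw [Module.finrank_fin_fun, Fintype.card_sigma] at h1
    simp only [Fintype.card_fin, hdd, Finset.sum_const, Finset.card_univ, smul_eq_mul] at h1
    exact h1.symm
  -- there are at least two weights
  have hm2 : 2 ≤ Fintype.card Λ := by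
    by_contra hlt
    have hcard : Fintype.card Λ = 1 := by
      have : 0 < Fintype.card Λ := Fintype.card_pos_iff.2 ⟨χ₀⟩
      omega
    obtain ⟨χ₁, hχ₁⟩ := Fintype.card_eq_one_iff.1 hcard
    refine hsc (χ₁.1 ⟨c, hcE⟩) (LinearMap.ext fun v => ?_)
    have h1 : v ∈ W χ₁ := by
      have : ⨆ χ, W χ ≤ W χ₁ := iSup_le fun χ => le_of_eq (by rw [hχ₁ χ])
      exact this (htopW ▸ Submodule.mem_top)
    rw [hW, mem_weight] at h1
    exact h1 ⟨c, hcE⟩
  -- at least p weights
  have hpm : p ≤ Fintype.card Λ := by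
    by_contra hlt
    push Not at hlt
    have hfix : ∀ (q : P) (χ : Λ), (q : G) • χ = χ := by
      intro q χ
      obtain ⟨k, hk⟩ := hP q
      let φ : P →* Equiv.Perm Λ := (MulAction.toPermHom G Λ).comp P.subtype
      have h1 : φ q ^ p ^ k = 1 := by rw [← map_pow, hk, map_one]
      have h2 : φ q ^ (Fintype.card Λ).factorial = 1 := by
        rw [← Fintype.card_perm]
        exact pow_card_eq_one
      have h3 : Nat.Coprime (p ^ k) (Fintype.card Λ).factorial :=
        Nat.Coprime.pow_left k ((Nat.Prime.coprime_iff_not_dvd hp).2 fun h => absurd (hp.dvd_factorial.1 h) (by omega))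
      have h4 := pow_gcd_eq_one.2 ⟨h1, h2⟩
      rw [h3.gcd_eq_one, pow_one] at h4
      exact congrArg (fun π : Equiv.Perm Λ => π χ) h4
    have hdp : d < p := by nlinarith
    refine hxy (Subtype.ext (hinj (LinearMap.ext fun v => ?_)))
    have hv : v ∈ ⨆ χ, W χ := htopW ▸ Submodule.mem_top
    refine Submodule.iSup_induction _ (motive := fun v => ρ ((x * y : P) : G) v = ρ ((y * x : P) : G) v) hv
      (fun χ v hv => ?_) (by simp) (fun a b ha hb => by rw [map_add, map_add, ha, hb])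
    let τ : Representation ℂ P (W χ) :=
      { toFun := fun q => (ρ (q : G)).restrict fun w hw => by
          have := hmove (q : G) χ w hw
          rwa [hfix] at this
        map_one' := LinearMap.ext fun w => Subtype.ext (by simp [LinearMap.restrict_apply])
        map_mul' := fun a b => LinearMap.ext fun w => Subtype.ext (by simp [LinearMap.restrict_apply]) }
    have h := comm_of_lt hp hP τ (by rw [hdd]; exact hdp) x y
    exact congrArg Subtype.val (LinearMap.congr_fun h ⟨v, hv⟩)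
  have hd1 : d = 1 := by
    by_contra h
    have h2d : 2 ≤ d := by omega
    have := Nat.mul_le_mul hpm h2d
    omega
  -- monomial: the kernel of the permutation action is abelian
  obtain ⟨K, hK⟩ : ∃ K : Subgroup G, K = (MulAction.toPermHom G Λ).ker := ⟨_, rfl⟩
  haveI : K.Normal := hK ▸ MonoidHom.normal_ker _
  have hKfix : ∀ k ∈ K, ∀ χ : Λ, k • χ = χ := fun k hk χ => by
    rw [hK, MonoidHom.mem_ker] at hk
    exact congrArg (fun π : Equiv.Perm Λ => π χ) hk
  have hKc : ∀ a b : K, a * b = b * a := fun a b => Subtype.ext (hinj (LinearMap.ext fun v => by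
    have hv : v ∈ ⨆ χ, W χ := htopW ▸ Submodule.mem_top
    refine Submodule.iSup_induction _ (motive := fun v => ρ ((a : G) * b) v = ρ ((b : G) * a) v) hv
      (fun χ v hv => ?_) (by simp) (fun u w hu hw => by rw [map_add, map_add, hu, hw])
    by_cases hv0 : v = 0
    · simp [hv0]
    have hsmul : ∀ k : K, ∃ t : ℂ, ρ (k : G) v = t • v := fun k => by
      have h1 := hmove (k : G) χ v hv
      rw [hKfix _ k.2] at h1
      obtain ⟨t, ht⟩ := exists_smul_eq_of_finrank_eq_one (K := ℂ) (V := W χ) (by rw [hdd, hd1])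
        (x := ⟨v, hv⟩) (by simpa using hv0) ⟨_, h1⟩
      exact ⟨t, (congrArg Subtype.val ht).symm⟩
    obtain ⟨ta, hta⟩ := hsmul a
    obtain ⟨tb, htb⟩ := hsmul b
    rw [map_mul, map_mul, Module.End.mul_apply, Module.End.mul_apply, hta, htb, map_smul, map_smul, hta, htb,
      smul_comm]))
  haveI := Fact.mk hp
  obtain ⟨R⟩ : Nonempty (Sylow p K) := inferInstance
  haveI hRn : (R : Subgroup K).Normal := ⟨fun r hr g => by rw [hKc g r, mul_inv_cancel_right]; exact hr⟩
  haveI : (R : Subgroup K).Characteristic := R.characteristic_of_normal hRn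
  have hle : (R : Subgroup K).map K.subtype ≤ Cfsg.pCore p G :=
    Cfsg.Agent.Core.le_pCore (R.2.map K.subtype)
  intro hdvd
  have h1 := hdvd.trans (Subgroup.index_dvd_of_le hle)
  rw [Subgroup.index_map_subtype, mul_comm] at h1
  have h2 : p ^ 2 ∣ K.index :=
    ((Nat.Coprime.pow_left 2 ((Nat.Prime.coprime_iff_not_dvd hp).2 R.not_dvd_index))).dvd_of_dvd_mul_right h1
  have h3 : K.index ∣ (Fintype.card Λ).factorial := by
    rw [hK, Subgroup.index_ker, ← Fintype.card_perm, ← Nat.card_eq_fintype_card]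
    exact Subgroup.card_subgroup_dvd_card _
  exact not_sq_dvd_factorial hp _ (by nlinarith) (h2.trans h3)

end Cfsg.Agent.BlichTwoEig
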